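import Groth.Agent.UnivOpen.SectionConst
import Groth.Agent.FibDim.LocDim
import Groth.Agent.FibDim.GenerizeDim

/-!
# Section components of finitely presented morphisms (EGA IV 15.6.7 without Noetherian base)
-/

set_option autoImplicit false
set_option linter.style.haveILetI false

open AlgebraicGeometry CategoryTheory Limits Topology IsLocalRing

namespace Groth.Agent.SectDimFP

open Groth.Agent Groth.Agent.UnivOpen

universe u

variable {X Y : Scheme.{u}} (f : X ⟶ Y)

/-- A discrete valuation ring hitting two points, for a Noetherian local ring at the smaller one. -/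
theorem exists_dvr_lift_of_stalk {s s' : Y} [IsNoetherianRing (Y.presheaf.stalk s)] (hs : s' ⤳ s)
    (hne : s ≠ s') : ∃ (A : Type u) (_ : CommRing A) (_ : IsDomain A) (_ : IsDiscreteValuationRing A)
      (τ : Spec (CommRingCat.of A) ⟶ Y), τ (IsLocalRing.closedPoint A) = s ∧
      ∀ η : Spec (CommRingCat.of A), η ≠ IsLocalRing.closedPoint A → τ η = s' := by
  haveI : IsLocallyNoetherian (Spec (Y.presheaf.stalk s)) := inferInstance
  obtain ⟨t, ht⟩ : s' ∈ Set.range (Y.fromSpecStalk s) := by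
    rw [Scheme.range_fromSpecStalk]; exact hs
  have hc : Y.fromSpecStalk s (closedPoint (Y.presheaf.stalk s)) = s := Scheme.fromSpecStalk_closedPoint
  obtain ⟨A, _, _, hA, τ, h₁, h₂⟩ := exists_dvr_lift (Y := Spec (Y.presheaf.stalk s))
    (s := closedPoint (Y.presheaf.stalk s)) (s' := t) (IsLocalRing.specializes_closedPoint t)
    (fun h => hne (hc.symm.trans ((congrArg (Y.fromSpecStalk s) h).trans ht)))
  refine ⟨A, _, _, hA, τ ≫ Y.fromSpecStalk s, ?_, fun η hη => ?_⟩
  · show Y.fromSpecStalk s (τ (IsLocalRing.closedPoint A)) = s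
    rw [h₁, hc]
  · show Y.fromSpecStalk s (τ η) = s'
    rw [h₂ η hη, ht]

/-- EGA IV 15.6.7 (α): the dimension does not drop at a generization. -/
theorem dim_le_of_geomReduced' [LocallyOfFiniteType f] {g : Y ⟶ X} (hg : g ≫ f = 𝟙 Y)
    (hgi : ∀ (y : Y) (K : Type u) [Field K] [Algebra (IsLocalRing.ResidueField (Y.presheaf.stalk y)) K],
      IsIrreducible ((FBase.bcπ (f.fiberToSpecResidueField y) K ≫ f.fiberι y).base ⁻¹' (connectedComponentIn (f.base ⁻¹' {y}) (g.base y))))
    {y₀ y' : Y} [IsNoetherianRing (Y.presheaf.stalk y₀)] (hy : y' ⤳ y₀) (hne : y₀ ≠ y')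
    (hopen : ∀ ξ ∈ connectedComponentIn (f.base ⁻¹' {y₀}) (g.base y₀),
      connectedComponentIn (f.base ⁻¹' {y₀}) (g.base y₀) ⊆ closure {ξ} → EGA43.IsUnivOpenAt f ξ)
    (a : ↥(f.fiber y₀)) (ha₀ : f.fiberι y₀ a = g y₀) (hred : FBase.IsGeomReducedAt (f.fiberToSpecResidueField y₀) a) :
    topologicalKrullDim ↥(connectedComponentIn (f.base ⁻¹' {y₀}) (g.base y₀)) ≤
      topologicalKrullDim ↥(connectedComponentIn (f.base ⁻¹' {y'}) (g.base y')) := by
  have hirr := irreducible_of_geomIrreducible f hgi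
  obtain ⟨A, _, _, _, τ, hτc, hτη⟩ := exists_dvr_lift_of_stalk hy hne
  haveI : IsLocallyNoetherian (Spec (CommRingCat.of A)) := inferInstance
  let η : Spec (CommRingCat.of A) := (⟨⊥, Ideal.isPrime_bot⟩ : PrimeSpectrum A)
  let c : Spec (CommRingCat.of A) := closedPoint A
  have hηne : η ≠ c := fun h => IsDiscreteValuationRing.not_a_field A (congrArg PrimeSpectrum.asIdeal h).symm
  have hcases : ∀ t : Spec (CommRingCat.of A), t ≠ c → t = η := fun t ht => by
    refine PrimeSpectrum.ext ?_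
    by_contra h
    exact ht (PrimeSpectrum.ext (IsLocalRing.eq_maximalIdeal ((t : PrimeSpectrum A).isPrime.isMaximal h)))
  have hτ : τ η = y' := hτη η hηne
  have hηc : η ⤳ c := (PrimeSpectrum.le_iff_specializes
    (⟨⊥, Ideal.isPrime_bot⟩ : PrimeSpectrum A) (closedPoint A : PrimeSpectrum A)).1 bot_le
  let q := pullback.snd f τ
  let p := pullback.fst f τ
  let g' : Spec (CommRingCat.of A) ⟶ pullback f τ := pullback.lift (τ ≫ g) (𝟙 _)
    (by rw [Category.assoc, hg, Category.comp_id, Category.id_comp])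
  have hg' : g' ≫ q = 𝟙 _ := pullback.lift_snd _ _ _
  have hg'₁ : g' ≫ p = τ ≫ g := pullback.lift_fst _ _ _
  have hpg : ∀ t, p (g' t) = g (τ t) := fun t => by rw [← Scheme.Hom.comp_apply, hg'₁]; rfl
  obtain ⟨ξ, hfξ, hξg, hξm, hC, hξv, hdC⟩ := exists_component_generic f (apply_section hg y₀) (hirr y₀)
  obtain ⟨ξ', hfξ', -, -, hC', hξ'v, hdC'⟩ := exists_component_generic f (apply_section hg y') (hirr y')
  rw [dim_component f (apply_section hg _) (hirr _), dim_component f (apply_section hg _) (hirr _), hdC, hdC']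
  suffices FibDim.rd f ξ ≤ FibDim.rd f ξ' by exact_mod_cast this
  -- the generic point of the closed fibre at the section
  obtain ⟨v, hvp, hvq, hvr⟩ := FibDim.exists_rd_baseChange_eq (IsPullback.of_hasPullback f τ) ξ c (hfξ.trans hτc.symm)
  have hS := isIrreducible_preimage_over f τ c hτc _ (connectedComponentIn_subset _ _) (hgi y₀)
  let S := {v : ↥(pullback f τ) | q v = c ∧ p v ∈ connectedComponentIn (f.base ⁻¹' {y₀}) (g.base y₀)}
  let ω := hS.genericPoint
  have hω : IsGenericPoint ω (closure S) := hS.isGenericPoint_genericPoint_closure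
  have hgS : g' c ∈ S := ⟨apply_section hg' c, by
    rw [hpg, hτc]; exact mem_connectedComponentIn (apply_section hg _)⟩
  have hωg : ω ⤳ g' c := hω.specializes (subset_closure hgS)
  have hqω : q ω = c := by
    have h1 : q ω ⤳ c := (hωg.map q.continuous).trans (specializes_of_eq (apply_section hg' c))
    have h2 : c ⤳ q ω := by
      rw [specializes_iff_mem_closure]
      refine closure_mono ?_ (image_closure_subset_closure_image q.continuous ⟨ω, hω.mem, rfl⟩)
      exact Set.image_subset_iff.2 fun v hv => hv.1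
    exact (h1.antisymm h2).eq
  have hωv : ω ⤳ v := hω.specializes (subset_closure ⟨hvq, by
    show p v ∈ _
    rw [show p v = ξ from hvp, hC]
    exact ⟨subset_closure rfl, hfξ⟩⟩)
  have hpω : p ω = ξ := by
    refine hξm _ ((hωv.map p.continuous).trans (specializes_of_eq hvp)) ?_
    rw [← Scheme.Hom.comp_apply, pullback.condition, Scheme.Hom.comp_apply, hqω, hτc, hfξ]
  have hωm : FibDim.FibMax q ω := fun z hz hqz => by
    have hzg := hz.trans hωg
    have hfz : f (p z) = y₀ := by
      rw [← Scheme.Hom.comp_apply, pullback.condition, Scheme.Hom.comp_apply, hqz, hqω, hτc]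
    have hzC : p z ∈ connectedComponentIn (f.base ⁻¹' {y₀}) (g.base y₀) := by
      rw [hC]
      refine ⟨specializes_iff_mem_closure.1 (hξv _ hfz ?_), hfz⟩
      have := hzg.map p.continuous
      rwa [hpg, hτc] at this
    exact (hz.antisymm (hω.specializes (subset_closure ⟨hqz.trans hqω, hzC⟩))).eq
  have hωopen : EGA43.IsOpenAt q.base ω :=
    hopen ξ (by rw [hC]; exact ⟨subset_closure rfl, hfξ⟩) (by rw [hC]; exact Set.inter_subset_left) _ τ ω hpω
  obtain ⟨z, hz, hqz, hrz⟩ := FibDim.exists_generization_rd_ge q hωopen (y' := η) (by rw [hqω]; exact hηc)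
  have hr : FibDim.rd f ξ ≤ FibDim.rd q ω :=
    hvr ▸ FibDim.rd_le_of_specializes q hωv (hqω.trans hvq.symm)
  refine (hr.trans (hrz.trans (FibDim.rd_baseChange_le (IsPullback.of_hasPullback f τ) z))).trans ?_
  -- the point of the generic fibre lies in the component of the section
  have hfz : f (p z) = y' := by
    rw [← Scheme.Hom.comp_apply, pullback.condition, Scheme.Hom.comp_apply, hqz, hτ]
  suffices hmem : p z ∈ connectedComponentIn (f.base ⁻¹' {y'}) (g.base y') by
    rw [hC'] at hmem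
    exact FibDim.rd_le_of_specializes f (specializes_iff_mem_closure.2 hmem.1) (hfξ'.trans hfz.symm)
  obtain ⟨w, hw⟩ : g' c ∈ Set.range (q.fiberι c) := by
    rw [Scheme.Hom.range_fiberι]; exact apply_section hg' c
  have hwred := isReduced_fibre_baseChange f τ hτc a hred w
    (by rw [hw, ha₀]; exact (hpg c).trans (congrArg g hτc))
  have hzw : z ⤳ q.fiberι c w := by rw [hw]; exact hz.trans hωg
  have hgw : g' η ⤳ q.fiberι c w := by rw [hw]; exact hηc.map g'.continuous
  have hqopen : ∀ z', z' ⤳ q.fiberι c w → q z' = q (q.fiberι c w) → FibDim.FibMax q z' →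
      EGA43.IsOpenAt q.base z' := by
    intro z' hz' hqz' hm'
    rw [hw] at hz' hqz'
    rw [apply_section hg'] at hqz'
    have hfz' : f (p z') = y₀ := by
      rw [← Scheme.Hom.comp_apply, pullback.condition, Scheme.Hom.comp_apply, hqz', hτc]
    have hz'C : p z' ∈ connectedComponentIn (f.base ⁻¹' {y₀}) (g.base y₀) := by
      rw [hC]
      refine ⟨specializes_iff_mem_closure.1 (hξv _ hfz' ?_), hfz'⟩
      have := hz'.map p.continuous
      rwa [hpg, hτc] at this
    obtain rfl : ω = z' := hm' ω (hω.specializes (subset_closure ⟨hqz', hz'C⟩)) (hqω.trans hqz'.symm)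
    exact hωopen
  have hfib : ∀ z', q z' = η → f (p z') = y' := fun z' h => by
    rw [← Scheme.Hom.comp_apply, pullback.condition, Scheme.Hom.comp_apply, h, hτ]
  obtain ⟨T, hT, hzT, hgT⟩ := FlatDvr.exists_preconnected_generic q rfl w hqopen hwred hzw hgw
    (fun h => hηne (hqz.symm.trans h)) (fun h => hηne ((apply_section hg' η).symm.trans h))
  have hTη : ∀ t ∈ T, q t = η := fun t ht => hcases _ (hT.2 t ht)
  refine (hT.1.image p p.continuous.continuousOn).subset_connectedComponentIn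
    ⟨g' η, hgT, (hpg η).trans (congrArg g hτ)⟩ ?_ ⟨z, hzT, rfl⟩
  rintro _ ⟨t, ht, rfl⟩
  exact hfib t (hTη t ht)


/-- A quasi-compact open subset of a spectrum meets every neighbourhood of `p` only if it contains a
generization of `p`. -/
theorem exists_nhd_disjoint_of_isCompact {R : Type*} [CommRing R] {D : Set (PrimeSpectrum R)}
    (hD : IsOpen D) (hDc : IsCompact D) (p : PrimeSpectrum R) (h : ∀ q : PrimeSpectrum R, q ⤳ p → q ∉ D) :
    ∃ W : Set (PrimeSpectrum R), IsOpen W ∧ p ∈ W ∧ ∀ z ∈ W, z ∉ D := by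
  have key : ∀ r : R, (PrimeSpectrum.basicOpen r : Set (PrimeSpectrum R)) ⊆ D →
      ∃ s : R, p ∈ PrimeSpectrum.basicOpen s ∧ ∀ z ∈ PrimeSpectrum.basicOpen s, z ∉ PrimeSpectrum.basicOpen r := by
    intro r hr
    have hnil : IsNilpotent (algebraMap R (Localization.AtPrime p.asIdeal) r) := by
      rw [nilpotent_iff_mem_prime]
      intro J hJ
      by_contra hrJ
      have hle : (PrimeSpectrum.comap (algebraMap R (Localization.AtPrime p.asIdeal)) ⟨J, hJ⟩).asIdeal ≤
          p.asIdeal := fun x hx => by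
        by_contra hxp
        exact hJ.ne_top (Ideal.eq_top_of_isUnit_mem J hx
          (IsLocalization.map_units (Localization.AtPrime p.asIdeal) (⟨x, hxp⟩ : p.asIdeal.primeCompl)))
      exact h _ ((PrimeSpectrum.le_iff_specializes _ _).1 hle) (hr hrJ)
    obtain ⟨n, hn⟩ := hnil
    rw [← map_pow, IsLocalization.map_eq_zero_iff p.asIdeal.primeCompl] at hn
    obtain ⟨⟨s, hsp⟩, hs⟩ := hn
    refine ⟨s, hsp, fun z hzs hzr => ?_⟩
    rcases z.isPrime.mem_or_mem (show (s : R) * r ^ n ∈ z.asIdeal by rw [hs]; exact Ideal.zero_mem _) with h1 | h1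
    · exact hzs h1
    · exact hzr (z.isPrime.mem_of_pow_mem n h1)
  have hcov : ∀ d ∈ D, ∃ r : R, d ∈ PrimeSpectrum.basicOpen r ∧
      (PrimeSpectrum.basicOpen r : Set (PrimeSpectrum R)) ⊆ D := fun d hd => by
    obtain ⟨_, ⟨r, rfl⟩, hdr, hrD⟩ :=
      PrimeSpectrum.isTopologicalBasis_basic_opens.exists_subset_of_mem_open hd hD
    exact ⟨r, hdr, hrD⟩
  choose r hr hrD using hcov
  obtain ⟨T, hT⟩ := hDc.elim_finite_subcover (fun d : D => (PrimeSpectrum.basicOpen (r d d.2) : Set (PrimeSpectrum R)))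
    (fun _ => (PrimeSpectrum.basicOpen _).isOpen) (fun d hd => Set.mem_iUnion.2 ⟨⟨d, hd⟩, hr d hd⟩)
  choose s hs hs' using fun d : D => key (r d d.2) (hrD d d.2)
  refine ⟨⋂ d ∈ T, (PrimeSpectrum.basicOpen (s d) : Set (PrimeSpectrum R)),
    isOpen_biInter_finset fun d _ => (PrimeSpectrum.basicOpen _).isOpen,
    Set.mem_iInter₂.2 fun d _ => hs d, fun z hz hzD => ?_⟩
  obtain ⟨d, hdT, hzd⟩ := Set.mem_iUnion₂.1 (hT hzD)
  exact hs' d z (Set.mem_iInter₂.1 hz d hdT) hzd

/-- A retrocompact open subset avoiding the generizations of `y` avoids a neighbourhood of `y`. -/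
theorem exists_nhd_disjoint {D : Set Y} (hD : IsOpen D)
    (hDc : ∀ V : Y.Opens, IsAffineOpen V → IsCompact (D ∩ V)) (y : Y) (h : ∀ z, z ⤳ y → z ∉ D) :
    ∃ W : Y.Opens, y ∈ W ∧ ∀ z ∈ W, z ∉ D := by
  obtain ⟨V, hV, hy, -⟩ := exists_isAffineOpen_mem_and_subset (x := y) (U := ⊤) trivial
  obtain ⟨p, rfl⟩ : y ∈ Set.range hV.fromSpec := by rw [hV.range_fromSpec]; exact hy
  have hemb := hV.fromSpec.isOpenEmbedding
  have hc : IsCompact (hV.fromSpec ⁻¹' D) := by
    rw [hemb.isInducing.isCompact_iff, Set.image_preimage_eq_inter_range, hV.range_fromSpec]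
    exact hDc V hV
  obtain ⟨W, hW, hpW, hWD⟩ := exists_nhd_disjoint_of_isCompact (R := Γ(Y, V))
    (hD.preimage hV.fromSpec.continuous) hc p fun q hq => h _ (hq.map hV.fromSpec.continuous)
  refine ⟨⟨hV.fromSpec '' W, hemb.isOpenMap _ hW⟩, ⟨p, hpW, rfl⟩, ?_⟩
  rintro _ ⟨z, hz, rfl⟩
  exact hWD z hz

/-- Along a section, the locus of small fibre dimension is retrocompact. -/
theorem isCompact_preimage_section [LocallyOfFinitePresentation f] [QuasiCompact f] [QuasiSeparated f]
    {g : Y ⟶ X} (hg : g ≫ f = 𝟙 Y) (n : ℕ) (V : Y.Opens) (hV : IsAffineOpen V) :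
    IsCompact (g ⁻¹' {x | FlatMor.fibreDimAt f x ≤ n} ∩ (V : Set Y)) := by
  haveI : QuasiCompact (g ≫ f) := by rw [hg]; infer_instance
  haveI : QuasiCompact g := QuasiCompact.of_comp g f
  have h1 : IsCompact ((f ⁻¹ᵁ V : X.Opens) : Set X) :=
    QuasiCompact.isCompact_preimage (f := f) _ V.isOpen hV.isCompact
  have h2 : IsCompact ({x | FlatMor.fibreDimAt f x ≤ n} ∩ ((f ⁻¹ᵁ V : X.Opens) : Set X)) :=
    FibDim.isRetrocompact_setOf_fibreDimAt_le f n h1 (f ⁻¹ᵁ V).isOpen
  have h3 := QuasiCompact.isCompact_preimage (f := g) _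
    ((FibDim.isOpen_fibreDimAt_le f n).inter (f ⁻¹ᵁ V).isOpen) h2
  convert h3 using 1
  ext y
  simp only [Set.mem_inter_iff, Set.mem_preimage, SetLike.mem_coe]
  exact and_congr Iff.rfl (by
    show y ∈ V ↔ f (g y) ∈ V
    rw [apply_section hg y])

end Groth.Agent.SectDimFP
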